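/-
Cohomology classes of direct sums live in finite partial sums.
-/
import Groth.Agent.QcSum.Sections
import Groth.Agent.QcSum.Space
import Groth.Agent.CohColim.Basic
import Groth.Agent.CohLin.Basic
import Groth.Agent.ModShf.ToSheaf
import Groth.Agent.QCoh.Exact
import Groth.Agent.Props.QApproxMain

set_option autoImplicit false

universe u

open CategoryTheory Limits AlgebraicGeometry Opposite TopologicalSpace

noncomputable section

namespace Groth.Agent.TopCohRep

variable {X : Scheme.{u}} {ι : Type u} {F : ι → X.Modules} {c : Cofan F} (hc : IsColimit c)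

open Classical in
/-- the projections of a coproduct -/
def proj (i : ι) : c.pt ⟶ F i := Cofan.IsColimit.desc hc fun j => if h : j = i then eqToHom (by rw [h]) else 0

lemma inj_proj (i : ι) : c.inj i ≫ proj hc i = 𝟙 _ := by
  simp [proj, Cofan.IsColimit.fac]

lemma inj_proj_ne {i j : ι} (h : j ≠ i) : c.inj j ≫ proj hc i = 0 := by
  simp [proj, Cofan.IsColimit.fac, h]

/-- the partial sums -/
def psum (S : Finset ι) : c.pt ⟶ c.pt := ∑ i ∈ S, proj hc i ≫ c.inj i

open Classical in
lemma inj_psum (S : Finset ι) {i : ι} (hi : i ∈ S) : c.inj i ≫ psum hc S = c.inj i := by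
  rw [psum, Preadditive.comp_sum, Finset.sum_eq_single i (fun j _ hj => ?_) (fun h => absurd hi h),
    ← Category.assoc, inj_proj, Category.id_comp]
  rw [← Category.assoc, inj_proj_ne hc (Ne.symm hj), zero_comp]

include hc in
/-- a section over a compact open is fixed by a partial sum -/
lemma exists_psum_app {W : X.Opens} (hW : IsCompact (W : Set X)) (s : Γ(c.pt, W)) :
    ∃ S : Finset ι, ∀ T, S ⊆ T → (psum hc T).app W s = s := by
  classical
  let Z := SheafOfModules.toSheaf.{u} X.ringCatSheaf
  have : HasColimitsOfShape (Discrete ι) AddCommGrpCat.{u} := inferInstance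
  have := Groth.Agent.ModShf.toSheafPreservesColimitsOfShape X.ringCatSheaf (Discrete ι)
  let c' : Cofan (fun i => Z.obj (F i)) := Cofan.mk (Z.obj c.pt) fun i => Z.map (c.inj i)
  have hc' : IsColimit c' := isColimitCofanMkObjOfIsColimit Z F _
    (hc.ofIsoColimit (Cocone.ext (Iso.refl _) (fun ⟨_⟩ => Category.comp_id _)))
  obtain ⟨S, hS⟩ := QcSum.exists_part_eq hc' (QcSum.isQCSite_of_isCompact hW) s
  refine ⟨S, fun T hT => ?_⟩
  have key : ∀ i ∈ S, ∀ v : Γ(F i, W), (psum hc T).app W ((c.inj i).app W v) = (c.inj i).app W v :=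
    fun i hi v => by
      rw [← ConcreteCategory.comp_apply, ← Scheme.Modules.Hom.comp_app, inj_psum hc T (hT hi)]
  rw [QcSum.part_apply] at hS
  conv_lhs => rw [← hS]
  conv_rhs => rw [← hS]
  refine (map_sum _ _ _).trans (Finset.sum_congr rfl fun i hi => ?_)
  exact key i hi _

include hc in
/-- a cohomology class is fixed by a partial sum -/
theorem exists_psum_hMap [CompactSpace X] [X.IsSeparated] (hF : c.pt.IsQuasicoherent) (n : ℕ)
    (h : Coh.HH X c.pt n) : ∃ S : Finset ι, CohLin.hMap (psum hc S) n h = h := by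
  classical
  have : c.pt.IsQuasicoherent := hF
  have : QuasiSeparatedSpace X := inferInstance
  obtain ⟨σ, hσ⟩ := Props.QApproxMain.exists_affine_finite_cover X
  let U : σ → Opens X.toPresheafedSpace.carrier := fun a => a.1.1
  have hU : ⨆ a, U a = ⊤ := top_le_iff.1 fun x _ => by
    obtain ⟨W, hW, hx⟩ := hσ x
    exact Opens.mem_iSup.2 ⟨⟨W, hW⟩, hx⟩
  have haff : ∀ {m : ℕ} (x : Fin (m + 1) → σ), (CohAff.affCov X).mem (CohAff.inter U x) :=
    fun x => CohColim.isAffineOpen_inter (ι := σ) U (fun a => a.1.2) x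
  obtain ⟨z, hz, hzh⟩ := CohAff.exists_toH_eq hU haff (CohAff.good_affCov c.pt) h
  choose S hS using fun x : Fin (n + 1) → σ =>
    exists_psum_app hc (W := CohAff.inter U x) (haff x).isCompact (z x)
  refine ⟨Finset.univ.biUnion S, ?_⟩
  have hmap : CohAff.cmap (CohLin.abMap (psum hc (Finset.univ.biUnion S))).hom U n z = z :=
    funext fun x => (CohAff.cmap_apply (CohLin.abMap (psum hc _)).hom U n z x).trans
      (hS x _ (Finset.subset_biUnion_of_mem S (Finset.mem_univ x)))
  rw [← hzh]
  refine (CohAff.toH_map hU (CohLin.abMap (psum hc (Finset.univ.biUnion S))) z hz).symm.trans ?_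
  exact CohAff.toH_congr hU hmap _ hz

end Groth.Agent.TopCohRep
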