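/-
Top cohomology on quasi-coherent modules is co-representable by a dualizing module.
-/
import Groth.Agent.TopCohRep.Sums
import Groth.Agent.QCohGen.Groth
import Mathlib.Algebra.Homology.ShortComplex.ExactFunctor
import Mathlib.Algebra.Homology.ShortComplex.ModuleCat
import Mathlib.CategoryTheory.Limits.Constructions.LimitsOfProductsAndEqualizers
import Mathlib.Algebra.Category.ModuleCat.Colimits

set_option autoImplicit false

universe u

open CategoryTheory Limits AlgebraicGeometry Opposite TopologicalSpace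

noncomputable section

namespace Groth.Agent.TopCohRep

variable (A : Type u) [CommRing A] (X : Scheme.{u}) [X.Over (Spec (CommRingCat.of A))]

/-- `H^n` on quasi-coherent modules -/
def Hn (n : ℕ) : QCohCat.QCoh X ⥤ ModuleCat.{u} A where
  obj M := ModuleCat.of A (Coh.HH X M.obj n)
  map φ := ModuleCat.ofHom (CohLin.overLin A (CohLin.hMap φ.hom n))
  map_id M := by
    ext x
    exact CohLin.hMap_id M.obj n x
  map_comp φ ψ := by
    ext x
    exact CohLin.hMap_comp φ.hom ψ.hom n x

instance (n : ℕ) : (Hn A X n).Additive where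
  map_add {M N φ ψ} := by
    ext x
    exact CohLin.hMap_add φ.hom ψ.hom n x

variable {A X}

theorem preservesFiniteColimits_Hn (n : ℕ)
    (hv : ∀ F : X.Modules, Coh.IsQCoh F → Subsingleton (Coh.HH X F (n + 1))) :
    PreservesFiniteColimits (Hn A X n) := by
  refine ((Functor.preservesFiniteColimits_tfae (Hn A X n)).out 0 3).1 fun S hS => ?_
  have hS' : (S.map (QCohCat.isQCoh X).ι).ShortExact := hS.map_of_exact _
  refine ⟨?_, ?_⟩
  · rw [ShortComplex.moduleCat_exact_iff]
    intro x hx
    obtain ⟨y, hy⟩ := CohLin.exists_hMap_f_eq hS' x hx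
    exact ⟨y, hy⟩
  · rw [ModuleCat.epi_iff_surjective]
    intro x
    haveI : Subsingleton (Coh.HH X (S.map (QCohCat.isQCoh X).ι).X₁ (n + 1)) := hv S.X₁.obj S.X₁.property
    obtain ⟨y, hy⟩ := CohLin.exists_hMap_g_eq hS' x (this.elim _ _)
    exact ⟨y, hy⟩

variable [CompactSpace X] [X.IsSeparated]

theorem preservesCoproducts_Hn (n : ℕ) (ι : Type u) :
    PreservesColimitsOfShape (Discrete ι) (Hn A X n) := by
  classical
  suffices ∀ F : ι → QCohCat.QCoh X, PreservesColimit (Discrete.functor F) (Hn A X n) from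
    preservesColimitsOfShape_of_discrete _
  intro F
  refine preservesColimit_of_preserves_colimit_cocone (coproductIsCoproduct F) ?_
  refine (isColimitMapCoconeCofanMkEquiv (Hn A X n) F _).symm ?_
  let e := (QCohCat.isQCoh X).ι
  let c : Cofan (fun i => (F i).obj) := Cofan.mk (∐ F).obj fun i => (Sigma.ι F i).hom
  let hc : IsColimit c := isColimitCofanMkObjOfIsColimit e F _ (coproductIsCoproduct F)
  let P : ∀ i, Coh.HH X c.pt n →ₗ[A] Coh.HH X (F i).obj n :=
    fun i => CohLin.overLin A (CohLin.hMap (proj hc i) n)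
  let I : ∀ i, Coh.HH X (F i).obj n →ₗ[A] Coh.HH X c.pt n :=
    fun i => CohLin.overLin A (CohLin.hMap (c.inj i) n)
  have hPI : ∀ i x, P i (I i x) = x := fun i x => by
    simp only [P, I, CohLin.overLin_apply]
    rw [← CohLin.hMap_comp, inj_proj, CohLin.hMap_id]
  have hPI0 : ∀ i j x, j ≠ i → P i (I j x) = 0 := fun i j x h => by
    simp only [P, I, CohLin.overLin_apply]
    rw [← CohLin.hMap_comp, inj_proj_ne hc h]
    exact map_zero (CohLin.hMapHom _ _ n x)
  have hsum : ∀ h : Coh.HH X c.pt n, ∃ S : Finset ι, ∑ i ∈ S, I i (P i h) = h := fun h => by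
    obtain ⟨S, hS⟩ := exists_psum_hMap hc (∐ F).property n h
    refine ⟨S, ?_⟩
    conv_rhs => rw [← hS]
    refine Eq.trans ?_ (map_sum (CohLin.hMapHom _ _ n h) _ S).symm
    refine Finset.sum_congr rfl fun i _ => ?_
    exact (CohLin.hMap_comp (proj hc i) (c.inj i) n h).symm
  have hsupp : ∀ h : Coh.HH X c.pt n, {i | P i h ≠ 0}.Finite := fun h => by
    obtain ⟨S, hS⟩ := hsum h
    refine S.finite_toSet.subset fun i hi => by_contra fun hiS => hi ?_
    rw [← hS, map_sum]
    exact Finset.sum_eq_zero fun j hj => hPI0 i j _ (fun e => hiS (e ▸ hj))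
  let L : ∀ (t : Cofan fun i => (Hn A X n).obj (F i)), ι → (Coh.HH X c.pt n →ₗ[A] t.pt) :=
    fun t i => (show Coh.HH X (F i).obj n →ₗ[A] t.pt from (t.inj i).hom).comp (P i)
  have hL0 : ∀ t i h, P i h = 0 → L t i h = 0 := fun t i h h0 => by
    simp only [L, LinearMap.comp_apply, h0, map_zero]
  have hLs : ∀ t h, (Function.support fun i => L t i h).Finite := fun t h =>
    (hsupp h).subset fun i hi h0 => hi (hL0 t i h h0)
  refine Cofan.IsColimit.mk _ (fun s => ModuleCat.ofHom
    { toFun := fun h => ∑ᶠ i, L s i h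
      map_add' := fun a b => by
        rw [← finsum_add_distrib (hLs s a) (hLs s b)]
        exact finsum_congr fun i => map_add _ a b
      map_smul' := fun r a => by
        rw [RingHom.id_apply, smul_finsum' r (hLs s a)]
        exact finsum_congr fun i => map_smul _ r a }) (fun s j => ?_) (fun s m hm => ?_)
  · ext (x : Coh.HH X (F j).obj n)
    change ∑ᶠ i, L s i (I j x) = (s.inj j).hom x
    rw [finsum_eq_single _ j fun i hi => hL0 s i _ (hPI0 i j x (Ne.symm hi))]
    exact congrArg (s.inj j).hom (hPI j x)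
  · ext (h : Coh.HH X c.pt n)
    obtain ⟨S, hS⟩ := hsum h
    change m.hom h = ∑ᶠ i, L s i h
    rw [finsum_eq_sum_of_support_subset _ (s := S) (fun i hi => by
      by_contra hiS
      refine hi (hL0 s i h ?_)
      rw [← hS, map_sum]
      exact Finset.sum_eq_zero fun j hj => hPI0 i j _ (fun e => hiS (e ▸ hj)))]
    refine (congrArg m.hom hS.symm).trans ((map_sum m.hom _ _).trans ?_)
    refine Finset.sum_congr rfl fun i _ => ?_
    exact congr($(hm i).hom (P i h))

/-- representability -/
theorem exists_rep (n : ℕ) (hv : ∀ F : X.Modules, Coh.IsQCoh F → Subsingleton (Coh.HH X F (n + 1))) :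
    ∃ (ω : X.Modules), Coh.IsQCoh ω ∧ ∃ γ : Coh.HH X ω n →ₗ[A] A, ∀ F : X.Modules, Coh.IsQCoh F →
      (∀ φ ψ : F ⟶ ω, (∀ x : Coh.HH X F n, γ (CohLin.hMap φ n x) = γ (CohLin.hMap ψ n x)) → φ = ψ) ∧
      (∀ g : Coh.HH X F n →ₗ[A] A, ∃ φ : F ⟶ ω, ∀ x : Coh.HH X F n, γ (CohLin.hMap φ n x) = g x) := by
  have := preservesFiniteColimits_Hn (A := A) n hv
  have : ∀ ι : Type u, PreservesColimitsOfShape (Discrete ι) (Hn A X n) := preservesCoproducts_Hn n
  have : PreservesColimitsOfSize.{u, u} (Hn A X n) :=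
    preservesColimits_of_preservesCoequalizers_and_coproducts _
  have := QCohGen.isLeftAdjoint_of_preservesColimits X (Hn A X n)
  let adj := Adjunction.ofIsLeftAdjoint (Hn A X n)
  let ω := (Hn A X n).rightAdjoint.obj (ModuleCat.of A A)
  refine ⟨ω.obj, ω.property, (adj.counit.app (ModuleCat.of A A)).hom, fun F hF => ⟨fun φ ψ h => ?_, fun g => ?_⟩⟩
  · have : (adj.homEquiv ⟨F, hF⟩ _).symm (ObjectProperty.homMk φ) =
        (adj.homEquiv ⟨F, hF⟩ _).symm (ObjectProperty.homMk ψ) := by
      rw [Adjunction.homEquiv_counit, Adjunction.homEquiv_counit]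
      ext x
      exact h x
    exact congrArg (fun a => a.hom) ((adj.homEquiv ⟨F, hF⟩ _).symm.injective this)
  · refine ⟨((adj.homEquiv ⟨F, hF⟩ (ModuleCat.of A A)) (ModuleCat.ofHom g)).hom, fun x => ?_⟩
    have := (adj.homEquiv ⟨F, hF⟩ (ModuleCat.of A A)).symm_apply_apply (ModuleCat.ofHom g)
    rw [Adjunction.homEquiv_counit] at this
    exact congr($(this).hom x)

end Groth.Agent.TopCohRep
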