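/-
Cohomology of quasi-coherent modules vanishes above the fibre dimension (Noetherian base, then any base).
-/
import Groth.Agent.S0042
import Groth.Agent.S11319
import Groth.Agent.S9777
import Groth.Agent.CBC.Rel
import Groth.Agent.CohColim.Basic
import Groth.Agent.CohLin.Basic
import Groth.Agent.EulerChar.Push
import Groth.Agent.LimLib.Proper
import Groth.Agent.LimLib.Model
import Groth.Agent.LimLib.FGSub
import Groth.Agent.QCoh.Exact

set_option autoImplicit false

universe u

open CategoryTheory Limits AlgebraicGeometry Opposite TopologicalSpace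

noncomputable section

namespace Groth.Agent.TopCohRep

open Groth.Agent.CBC

section Noeth

variable {R : Type u} [CommRing R] [IsNoetherianRing R] {X : Scheme.{u}}
  [X.Over (Spec (CommRingCat.of R))] [IsProper (X ↘ Spec (CommRingCat.of R))]

/-- for coherent modules: classes die after localisation at a prime with small fibre -/
theorem exists_notMem_smul_coh (J : X.Modules) (hJ : Coh.IsCoh J) (q : ↥(Spec (CommRingCat.of R)))
    (d : ℕ) (hd : topologicalKrullDim ↥((X ↘ Spec (CommRingCat.of R)).fiber q) ≤ d) (p : ℕ) (hp : d < p)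
    (y : Coh.HH X J p) : ∃ a : R, a ∉ q.asIdeal ∧ a • y = 0 := by
  let f := X ↘ Spec (CommRingCat.of R)
  have : J.IsQuasicoherent := hJ.1
  have : HasInjectiveResolutions X.Modules := by
    have : EnoughInjectives X.Modules := IsGrothendieckAbelian.enoughInjectives.{u}
    infer_instance
  have hV : IsAffineOpen (⊤ : (Spec (CommRingCat.of R)).Opens) := isAffineOpen_top _
  obtain ⟨D⟩ := nonempty_model f hV
  have hcov : ⨆ i, D.U i = ⊤ := top_unique fun x _ => D.cov trivial
  let φ : Γ(Spec (CommRingCat.of R), ⊤) →+* Γ(X, ⊤) := (f.app ⊤).hom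
  obtain ⟨x, hx⟩ := (hTop_bijective φ hcov J D.aff p).2 y
  let M := (Coh.Rpush f p).obj J
  let t : Γ(M, ⊤) := rpushEquiv D J hV p x
  have : M.IsQuasicoherent := CBC.isQuasicoherent_Rpush f J p
  have hz : Subsingleton (M.presheaf.stalk q) := by
    obtain ⟨e⟩ := S11319.result f J p
    exact AddCommGrpCat.subsingleton_of_isZero (IsZero.of_iso (S0042.result f q d hd J hJ p hp)
      ((TopCat.Presheaf.stalkFunctor AddCommGrpCat.{u} q).mapIso ((sheafToPresheaf _ _).mapIso e)))
  letI := Props.QStalk.moduleSections M (show q ∈ (⊤ : (Spec (CommRingCat.of R)).Opens) from trivial)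
  haveI := Props.QStalk.isLocalizedModule_germLin M (show q ∈ (⊤ : (Spec (CommRingCat.of R)).Opens) from trivial) hV
  obtain ⟨⟨s, hs⟩, hst⟩ := (IsLocalizedModule.eq_zero_iff
    (hV.primeIdealOf ⟨q, trivial⟩).asIdeal.primeCompl
    (Props.QStalk.germLin M (show q ∈ (⊤ : (Spec (CommRingCat.of R)).Opens) from trivial))).1
      (hz.elim (Props.QStalk.germLin M (show q ∈ (⊤ : (Spec (CommRingCat.of R)).Opens) from trivial) t) 0)
  have hsx : s • x = 0 := (rpushEquiv D J hV p).injective
    ((LinearEquiv.map_smul (rpushEquiv D J hV p) s x).trans (hst.trans (map_zero _).symm))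
  refine ⟨(Scheme.ΓSpecIso (CommRingCat.of R)).hom s, ?_, ?_⟩
  · letI := ((Spec (CommRingCat.of R)).presheaf.germ ⊤ q trivial).hom.toAlgebra
    haveI := hV.isLocalization_stalk ⟨q, trivial⟩
    have hu : IsUnit ((Spec (CommRingCat.of R)).presheaf.germ ⊤ q trivial s) :=
      (IsLocalization.AtPrime.isUnit_to_map_iff ((Spec (CommRingCat.of R)).presheaf.stalk q)
        (hV.primeIdealOf ⟨q, trivial⟩).asIdeal s).2 hs
    have hb := (Scheme.mem_basicOpen _ s q trivial).2 hu
    rw [basicOpen_eq_of_affine'] at hb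
    exact hb
  · have h2 := hTop_smul φ hcov J p s x
    rw [show hTop φ hcov J p (s • x) = 0 from (congrArg _ hsx).trans (map_zero _)] at h2
    rw [← hx]
    refine Eq.trans ?_ h2.symm
    change Coh.toGlobal f ((Scheme.ΓSpecIso (CommRingCat.of R)).hom s) •
      (hTop φ hcov J p x : Coh.HH X J p) = _
    refine congrArg (· • (hTop φ hcov J p x : Coh.HH X J p)) ?_
    exact congrArg f.appTop (Iso.hom_inv_id_apply (Scheme.ΓSpecIso (CommRingCat.of R)) s)

/-- for quasi-coherent modules -/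
theorem exists_notMem_smul (F : X.Modules) (hF : Coh.IsQCoh F) (q : ↥(Spec (CommRingCat.of R))) (d : ℕ)
    (hd : topologicalKrullDim ↥((X ↘ Spec (CommRingCat.of R)).fiber q) ≤ d) (p : ℕ) (hp : d < p)
    (h : Coh.HH X F p) : ∃ a : R, a ∉ q.asIdeal ∧ a • h = 0 := by
  have : F.IsQuasicoherent := hF
  have : CompactSpace X := QuasiCompact.compactSpace_of_compactSpace (X ↘ Spec (CommRingCat.of R))
  have : X.IsSeparated := ⟨by
    rw [← terminal.comp_from (X ↘ Spec (CommRingCat.of R))]
    infer_instance⟩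
  obtain ⟨J, j, hJ, y, rfl⟩ := CohColim.exists_coh_submodule_hMap F p h
  obtain ⟨a, ha, hay⟩ := exists_notMem_smul_coh J hJ q d hd p hp y
  refine ⟨a, ha, ?_⟩
  have := congrArg (CohLin.overLin R (CohLin.hMap j p)) hay
  rwa [map_smul, map_zero] at this

end Noeth

variable {A : Type u} [CommRing A] {X : Scheme.{u}} [X.Over (Spec (CommRingCat.of A))]

theorem toGlobal_comp {R S : Type u} [CommRing R] [CommRing S] (φ : R →+* S) {Y : Scheme.{u}}
    (f : Y ⟶ Spec (CommRingCat.of S)) (a : R) :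
    Coh.toGlobal (f ≫ Spec.map (CommRingCat.ofHom φ)) a = Coh.toGlobal f (φ a) := by
  have h := ConcreteCategory.congr_hom (Scheme.ΓSpecIso_inv_naturality (CommRingCat.ofHom φ)) a
  simp only [ConcreteCategory.comp_apply] at h
  simp only [Coh.toGlobal, RingHom.comp_apply, Scheme.Hom.comp_appTop, ConcreteCategory.comp_apply,
    CommRingCat.hom_comp]
  exact (congrArg f.appTop h).symm

/-- transport along an affine morphism to a proper scheme over a Noetherian ring -/
theorem exists_notMem_smul_of_model {R : Type u} [CommRing R] [IsNoetherianRing R] (φ : R →+* A)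
    {X₀ : Scheme.{u}} (f₀ : X₀ ⟶ Spec (CommRingCat.of R)) [IsProper f₀] (g : X ⟶ X₀) [IsAffineHom g]
    (w : g ≫ f₀ = (X ↘ Spec (CommRingCat.of A)) ≫ Spec.map (CommRingCat.ofHom φ))
    (F : X.Modules) (hF : Coh.IsQCoh F) (q : ↥(Spec (CommRingCat.of R))) (d : ℕ)
    (hd : topologicalKrullDim ↥(f₀.fiber q) ≤ d) (p : ℕ) (hp : d < p) (h : Coh.HH X F p) :
    ∃ a : R, a ∉ q.asIdeal ∧ φ a • h = 0 := by
  have key : ∀ a : R, Coh.toGlobal (g ≫ f₀) a • h = φ a • h := fun a => by
    rw [w, toGlobal_comp]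
    rfl
  suffices ∃ a : R, a ∉ q.asIdeal ∧ Coh.toGlobal (g ≫ f₀) a • h = 0 by
    obtain ⟨a, ha, h0⟩ := this
    exact ⟨a, ha, (key a).symm.trans h0⟩
  clear key w
  letI iX : X.Over (Spec (CommRingCat.of R)) := ⟨g ≫ f₀⟩
  letI iY : X₀.Over (Spec (CommRingCat.of R)) := ⟨f₀⟩
  haveI : IsProper (X₀ ↘ Spec (CommRingCat.of R)) := ‹IsProper f₀›
  obtain ⟨e⟩ := EulerChar.nonempty_pushEquiv (A := R) g rfl F hF p
  have hq : Coh.IsQCoh ((Scheme.Modules.pushforward g).obj F) :=
    have : F.IsQuasicoherent := hF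
    QCoh.isQuasicoherent_pushforward g F
  obtain ⟨a, ha, h0⟩ := exists_notMem_smul _ hq q d hd p hp (e.symm h)
  refine ⟨a, ha, ?_⟩
  have := congrArg e h0
  rw [map_smul, map_zero, LinearEquiv.apply_symm_apply] at this
  exact this

variable [IsProper (X ↘ Spec (CommRingCat.of A))] [LocallyOfFinitePresentation (X ↘ Spec (CommRingCat.of A))]

/-- cohomology vanishes above the fibre dimension -/
theorem subsingleton_HH (d : ℕ)
    (hd : ∀ y, topologicalKrullDim ↥((X ↘ Spec (CommRingCat.of A)).fiber y) ≤ d)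
    (F : X.Modules) (hF : Coh.IsQCoh F) (p : ℕ) (hp : d < p) : Subsingleton (Coh.HH X F p) := by
  let f := X ↘ Spec (CommRingCat.of A)
  have : CompactSpace X := QuasiCompact.compactSpace_of_compactSpace f
  have : QuasiSeparatedSpace X := quasiSeparatedSpace_of_quasiSeparated f
  have hc := LimLib.isLimitFgCone ℤ A
  have (i : (Finset A)ᵒᵖ) : CompactSpace ((LimLib.fgDiagram ℤ A).obj i) := inferInstance
  have (i : (Finset A)ᵒᵖ) : QuasiSeparatedSpace ((LimLib.fgDiagram ℤ A).obj i) := inferInstance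
  let f' : X ⟶ (LimLib.fgCone ℤ A).pt := f
  haveI : LocallyOfFinitePresentation f' := ‹LocallyOfFinitePresentation f›
  obtain ⟨i, W, w, g, hw, hWc, hWq, sq⟩ := LimLib.hasModel (c := LimLib.fgCone ℤ A) hc f'
  obtain ⟨k, ψ, hk⟩ := LimLib.descends_isProper (LimLib.fgDiagram ℤ A) (LimLib.fgCone ℤ A) hc
    inferInstance inferInstance inferInstance i W w hWc hWq inferInstance X g f sq
    (show IsProper f from inferInstance)
  obtain ⟨-, -, -, sq'⟩ := LimLib.HasModel.at_finer hw hWc hWq sq ψ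
  let B := Algebra.adjoin ℤ ((k.unop : Finset A) : Set A)
  let φ : B →+* A := B.val.toRingHom
  have : IsNoetherianRing B := by
    have : Algebra.FiniteType ℤ B := (Subalgebra.fg_iff_finiteType _).1 ⟨k.unop, rfl⟩
    exact Algebra.FiniteType.isNoetherianRing ℤ B
  let f₀ : pullback w ((LimLib.fgDiagram ℤ A).map ψ) ⟶ Spec (CommRingCat.of B) := pullback.snd _ _
  let g₀ : X ⟶ pullback w ((LimLib.fgDiagram ℤ A).map ψ) := pullback.lift g (f' ≫ (LimLib.fgCone ℤ A).π.app k) (by
    rw [sq.w, Category.assoc, Cone.w])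
  have sq₀ : IsPullback g₀ f f₀ (Spec.map (CommRingCat.ofHom φ)) := sq'
  have : IsProper f₀ := hk
  have : IsAffineHom g₀ := MorphismProperty.of_isPullback sq₀.flip inferInstance
  refine subsingleton_of_forall_eq 0 fun h => ?_
  by_contra hne
  let I : Ideal A := LinearMap.ker (LinearMap.toSpanSingleton A _ h)
  have hI : I ≠ ⊤ := fun htop => hne (by
    have h1 : (1 : A) ∈ I := htop ▸ Submodule.mem_top
    simpa [I] using h1)
  obtain ⟨m, hm, hIm⟩ := Ideal.exists_le_maximal I hI
  let q : ↥(Spec (CommRingCat.of A)) := ⟨m, hm.isPrime⟩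
  have hfib : topologicalKrullDim ↥(f₀.fiber (Spec.map (CommRingCat.ofHom φ) q)) ≤ d :=
    (S9777.result f₀ _ f g₀ sq₀ q).symm.le.trans (hd q)
  obtain ⟨a, ha, h0⟩ := exists_notMem_smul_of_model φ f₀ g₀ sq₀.w F hF _ d hfib p hp h
  exact ha (hIm (show φ a ∈ I by simpa [I] using h0))

end Groth.Agent.TopCohRep
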